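import Groth.Prelude.Def_Flat
import Mathlib.AlgebraicGeometry.Morphisms.FlatDescent
import Mathlib.AlgebraicGeometry.Morphisms.UniversallyClosed
import Mathlib.AlgebraicGeometry.Morphisms.UniversallyInjective

/-!
A universal homeomorphism is a universally closed, universally injective, surjective morphism.
-/

set_option autoImplicit false

universe u

open CategoryTheory AlgebraicGeometry

namespace Groth.Agent.FlatPureLib

theorem isUnivHomeo_eq : FlatMor.IsUnivHomeo.{u} =
    (@UniversallyClosed ⊓ @UniversallyInjective ⊓ @Surjective : MorphismProperty Scheme.{u}) := by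
  ext X Y f
  constructor
  · intro h
    refine ⟨⟨⟨?_⟩, ?_⟩, ⟨?_⟩⟩
    · exact fun _ _ i₁ i₂ f' sq => (h _ _ f' sq).isClosedMap
    · exact ⟨fun _ _ i₁ i₂ f' sq => (h _ _ f' sq).injective⟩
    · exact (h _ _ f IsPullback.of_id_snd).surjective
  · rintro ⟨⟨hc, hi⟩, hs⟩ A B i₁ i₂ f' sq
    refine isHomeomorph_iff_continuous_isClosedMap_bijective.2 ⟨f'.continuous, ?_, ?_, ?_⟩
    · exact hc.universally_isClosedMap _ _ _ sq
    · exact hi.universally_injective _ _ _ sq
    · exact (MorphismProperty.of_isPullback (P := @Surjective) sq.flip hs).surj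

end Groth.Agent.FlatPureLib
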